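import Groth.Agent.ModStackLib.Hom
import Groth.Agent.S5134
import Groth.Agent.S2526
import Groth.Agent.DescLib.Family

/-!
# Finite presentation and flatness descend along fpqc families
-/

set_option autoImplicit false
set_option linter.all false
set_option backward.isDefEq.respectTransparency false
set_option backward.isDefEq.respectTransparency.types false

noncomputable section

universe u

open CategoryTheory CategoryTheory.Limits AlgebraicGeometry Opposite
open KFlatLib (pb)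

namespace ModStackLib

theorem isFP_sigma_scheme {m : ℕ} {V : Fin m → Scheme.{u}} [∀ k, IsAffine (V k)] (G : (∐ V).Modules) [Coh.IsQCoh G]
    (h : ∀ k, CohB1.IsFP (pb (Limits.Sigma.ι V k) G)) : CohB1.IsFP G := by
  refine RichLib.IsFPAffine.isFP_of_finitePresentation G fun p => ?_
  obtain ⟨k, z, hz⟩ := (sigmaOpenCover V).exists_eq p
  haveI : IsOpenImmersion (Limits.Sigma.ι V k) := inferInstance
  exact ⟨(Limits.Sigma.ι V k).opensRange, isAffineOpen_opensRange _, ⟨z, hz⟩,
    Groth.Agent.S5134.finitePresentation_of_cover (Limits.Sigma.ι V k) G (h k) (isAffineOpen_opensRange _) rfl⟩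

theorem isFP_descend {ι : Type u} {Z : Scheme.{u}} {W : ι → Scheme.{u}} {t : ∀ i, W i ⟶ Z}
    (ht : Presieve.ofArrows W t ∈ Scheme.fpqcPrecoverage Z) (M : Z.Modules) [Coh.IsQCoh M]
    (h : ∀ i, CohB1.IsFP (pb (t i) M)) : CohB1.IsFP M := by
  refine RichLib.IsFPAffine.isFP_of_finitePresentation M fun p => ?_
  obtain ⟨_, ⟨U, hU, rfl⟩, hp, -⟩ :=
    Z.isBasis_affineOpens.exists_subset_of_mem_open (Set.mem_univ p) isOpen_univ
  refine ⟨U, hU, hp, ?_⟩
  replace hU : IsAffineOpen (X := Z) U := hU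
  obtain ⟨m, a, V, o, b, hV, ho, hob, hsig, hfl, hsurj, -⟩ := DescLib.exists_affine_refinement ht hU
  haveI := hV
  haveI := hsig
  haveI := hfl
  haveI := hsurj
  let q : (∐ V) ⟶ Z := Limits.Sigma.desc b ≫ Scheme.Opens.ι U
  haveI : Flat q := inferInstanceAs (Flat (Limits.Sigma.desc b ≫ Scheme.Opens.ι U))
  haveI : Coh.IsQCoh (pb q M) := KFlatLib.isQCoh_pullback q M
  have hk : ∀ k, CohB1.IsFP (pb (Limits.Sigma.ι V k) (pb q M)) := fun k => by
    have e : Limits.Sigma.ι V k ≫ q = o k ≫ t (a k) := by rw [hob]; simp [q]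
    exact (SheafOfModules.isFinitePresentation (R := (V k).ringCatSheaf)).prop_of_iso
      ((QCohDescLib.compIso M (o k) (rfl : o k ≫ t (a k) = _)) ≪≫ (QCohDescLib.compIso M (Limits.Sigma.ι V k) e).symm)
      (RichLib.ModFlat.isFP_pullback (o k) (h (a k)))
  refine Groth.Agent.S5134.finitePresentation_of_cover q M (isFP_sigma_scheme _ hk) hU ?_
  ext y
  constructor
  · rintro ⟨z, rfl⟩
    exact (Limits.Sigma.desc b z).2
  · intro hy
    obtain ⟨z, hz⟩ := (Limits.Sigma.desc b).surjective ⟨y, hy⟩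
    exact ⟨z, show Scheme.Opens.ι U (Limits.Sigma.desc b z) = y by rw [hz]; rfl⟩

theorem isFlatOver_descend {ι : Type u} {Z T : Scheme.{u}} {W V : ι → Scheme.{u}} {t : ∀ i, W i ⟶ Z}
    (ht : Presieve.ofArrows W t ∈ Scheme.fpqcPrecoverage Z) (q : Z ⟶ T) (M : Z.Modules)
    (qi : ∀ i, W i ⟶ V i) (g : ∀ i, V i ⟶ T) [∀ i, Flat (g i)] (hw : ∀ i, t i ≫ q = qi i ≫ g i)
    (h : ∀ i, FlatMod.IsFlatOver (qi i) (pb (t i) M)) : FlatMod.IsFlatOver q M := by
  intro x
  obtain ⟨i, z, rfl⟩ := DescLib.ofArrows_surj ht x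
  haveI : Flat (t i) := DescLib.ofArrows_flat ht i
  have h1 := Groth.Agent.S2526.isFlatOverAt_comp (qi i) (g i) _ z (h i z)
  rw [← hw i] at h1
  exact Groth.Agent.S2526.isFlatOverAt_descend q (t i) M z h1

end ModStackLib
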