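import Groth.Agent.ModStackLib.Kappa

/-!
# Descent of morphisms of modules on base changes
-/

set_option autoImplicit false
set_option linter.all false
set_option backward.isDefEq.respectTransparency false
set_option backward.isDefEq.respectTransparency.types false

noncomputable section

universe u

open CategoryTheory CategoryTheory.Limits AlgebraicGeometry Opposite ModSt FibCat
open KFlatLib (pb puSec puSecLE)
open QCohDescLib (compIso pullLE_eq_compIso pullLE_pullLE puSecLE_rfl pullLE)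

namespace ModStackLib

theorem compIso_assoc {Y₀ Y Y' Z : Scheme.{u}} (M : Z.Modules) (g : Y' ⟶ Y) (g' : Y₀ ⟶ Y') {h : Y ⟶ Z}
    {h' : Y' ⟶ Z} {h₀ : Y₀ ⟶ Z} {k : Y₀ ⟶ Y} (e : g ≫ h = h') (e' : g' ≫ h' = h₀) (ek : g' ≫ g = k)
    (e'' : k ≫ h = h₀) :
    (Scheme.Modules.pullback g').map (compIso M g e).hom ≫ (compIso M g' e').hom =
      (compIso (pb h M) g' ek).hom ≫ (compIso M k e'').hom := by
  subst ek
  refine CohCmpLib.hom_ext_puSec₂ _ _ fun U x => ?_
  have l₁ : g ⁻¹ᵁ U ≤ g ⁻¹ᵁ U := le_refl _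
  have l₂ : g' ⁻¹ᵁ (g ⁻¹ᵁ U) ≤ (g' ≫ g) ⁻¹ᵁ U := le_refl _
  show (compIso M g' e').hom.app _ (((Scheme.Modules.pullback g').map (compIso M g e).hom).app _
      (puSec g' (puSec g x))) =
    (compIso M (g' ≫ g) e'').hom.app _ ((compIso (pb h M) g' rfl).hom.app _ (puSec g' (puSec g x)))
  rw [KFlatLib.puSec_natural, QCohDescLib.compIso_puSec (pb h M) g' rfl x l₂, ← pullLE_eq_compIso,
    ← puSecLE_rfl (pb h M) x, ← pullLE_eq_compIso M g e l₁ x, ← puSecLE_rfl (pb h' M) (pullLE M g e l₁ x),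
    ← pullLE_eq_compIso]
  exact pullLE_pullLE M g g' e e' e'' l₁ (le_refl _) l₂ x

variable {X S : Scheme.{u}} {f : X ⟶ S}

theorem map_κ {A B : Obj f} (φ : A ⟶ B) {Y : Scheme.{u}} (s : Y ⟶ A.XT) {a : Y ⟶ B.XT} (e : s ≫ φ.top = a) :
    (Scheme.Modules.pullback s).map (κ φ.top φ.c) = (compIso B.E s e).hom ≫ θ φ s e := by
  rw [θ, Iso.hom_inv_id_assoc]

section descend

variable {A B : Obj f} (w : A.base ⟶ B.base) {κ₀ : Type u} {C : κ₀ → Obj f} (α : ∀ i, C i ⟶ A) (β : ∀ i, C i ⟶ B)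
  (hb : ∀ i, (β i).base = (α i).base ≫ w)
  (hcov : Presieve.ofArrows (fun i => (C i).base.left) (fun i => (α i).base.left) ∈
    Scheme.fpqcPrecoverage A.base.left)

include hcov in
theorem tops_mem : Presieve.ofArrows (fun i => (C i).XT) (fun i => (α i).top) ∈ Scheme.fpqcPrecoverage A.XT :=
  Precoverage.mem_coverings_of_isPullback (fun i => (α i).base.left) hcov A.q (fun i => (α i).top)
    (fun i => (C i).q) fun i => (α i).isPullback_top

theorem w_lift : A.p ≫ f = (A.q ≫ w.left) ≫ B.base.hom :=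
  A.isPullback.w.trans ((congrArg (A.q ≫ ·) (Over.w w).symm).trans (Category.assoc _ _ _).symm)

/-- The map of total spaces over `w`. -/
def etop : A.XT ⟶ B.XT := B.isPullback.lift A.p (A.q ≫ w.left) (w_lift w)

theorem etop_p : etop w ≫ B.p = A.p := IsPullback.lift_fst _ _ _ _

theorem etop_q : etop w ≫ B.q = A.q ≫ w.left := IsPullback.lift_snd _ _ _ _

theorem top_eq {n : A ⟶ B} (hn : n.base = w) : n.top = etop w :=
  B.isPullback.hom_ext (by rw [n.w_p, etop_p]) (by rw [n.w_q, etop_q, hn])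

include hb in
theorem top_etop (i : κ₀) : (α i).top ≫ etop w = (β i).top := by
  refine B.isPullback.hom_ext ?_ ?_
  · rw [Category.assoc, etop_p, (α i).w_p, (β i).w_p]
  · rw [Category.assoc, etop_q, ← Category.assoc, (α i).w_q, (β i).w_q, hb i, Over.comp_left, Category.assoc]

include hb hcov in
/-- Uniqueness of descended morphisms. -/
theorem hom_unique {n n' : A ⟶ B} (hn : n.base = w) (hn' : n'.base = w) (h : ∀ i, α i ≫ n = α i ≫ n') :
    n = n' := by
  haveI : ∀ i, Flat (α i).top := fun i => DescLib.ofArrows_flat (tops_mem α hcov) i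
  have hsurj := DescLib.ofArrows_surj (tops_mem α hcov)
  obtain ⟨b, t, wp, wq, c, hc⟩ := n
  obtain ⟨b', t', wp', wq', c', hc'⟩ := n'
  obtain rfl : b = b' := hn.trans hn'.symm
  obtain rfl : t = t' := B.isPullback.hom_ext (wp.trans wp'.symm) (wq.trans wq'.symm)
  have hk : κ t c = κ t c' := by
    refine QCohDescLib.eq_of_pullback_map_eq (fun i => (α i).top) hsurj _ _ fun i => ?_
    let n₁ : A ⟶ B := ⟨b, t, wp, wq, c, hc⟩
    let n₂ : A ⟶ B := ⟨b, t, wp, wq, c', hc'⟩
    rw [map_κ n₁ (α i).top rfl, map_κ n₂ (α i).top rfl]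
    congr 1
    have e := θ_congr (h i) (𝟙 (C i).XT) (Category.id_comp _) (Category.id_comp _)
    rw [θ_comp (α i) n₁ _ (Category.id_comp _) rfl, θ_comp (α i) n₂ _ (Category.id_comp _) rfl] at e
    exact (cancel_mono _).1 e
  obtain rfl : c = c' := ((Scheme.Modules.pullbackPushforwardAdjunction t).homEquiv _ _).symm.injective hk
  rfl

variable (hcompat : ∀ (i j : κ₀) (D : Obj f) (μ : D ⟶ C i) (ν : D ⟶ C j), μ ≫ α i = ν ≫ α j → μ ≫ β i = ν ≫ β j)

include hb hcov hcompat in
/-- Morphisms descend along fpqc coverings of the base. -/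
theorem exists_hom [Coh.IsQCoh A.E] : ∃ n : A ⟶ B, n.base = w ∧ ∀ i, α i ≫ n = β i := by
  let t : ∀ i, (C i).XT ⟶ A.XT := fun i => (α i).top
  have hE : ∀ i, t i ≫ etop w = (β i).top := top_etop w α β hb
  haveI : ∀ i, IsIso (κ (α i).top (α i).c) := fun i => isIso_κ _ (α i).cart
  haveI : ∀ i, IsIso (κ (β i).top (β i).c) := fun i => isIso_κ _ (β i).cart
  let φ : ∀ i, pb (t i) (pb (etop w) B.E) ⟶ pb (t i) A.E := fun i =>
    (compIso B.E (t i) (hE i)).hom ≫ κ (β i).top (β i).c ≫ inv (κ (α i).top (α i).c)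
  haveI : ∀ i, Flat (t i) := fun i => DescLib.ofArrows_flat (tops_mem α hcov) i
  have hφ : ∀ i j (Y : Scheme.{u}) (a : Y ⟶ (C i).XT) (b : Y ⟶ (C j).XT) (q : Y ⟶ A.XT) (ea : a ≫ t i = q)
      (eb : b ≫ t j = q),
      (Scheme.Modules.pullback a).map (φ i) ≫ (compIso A.E a ea).hom ≫ (compIso A.E b eb).inv =
        ((compIso (pb (etop w) B.E) a ea).hom ≫ (compIso (pb (etop w) B.E) b eb).inv) ≫
          (Scheme.Modules.pullback b).map (φ j) := by
    intro i j Y a b q ea eb
    let g : Over.mk ((a ≫ (C i).q) ≫ (C i).base.hom) ⟶ (C i).base := Over.homMk (a ≫ (C i).q) rfl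
    obtain ⟨D, μ, hμ⟩ := IsFibGrpd.exists_lift (p := (Fam f).p) (x := C i) g
    have hD : D.base = _ := IsHomLift.domain_eq (Obj.forget f) g μ
    have hμb : μ.base = eqToHom hD ≫ g := by
      haveI := hμ
      have := IsHomLift.fac' (Obj.forget f) g μ
      rw [show μ.base = _ from this]
      simp
    have hq : (a ≫ (C i).q) ≫ (α i).base.left = (b ≫ (C j).q) ≫ (α j).base.left := by
      have h := congrArg (· ≫ A.q) (ea.trans eb.symm)
      simpa only [t, Category.assoc, Obj.Hom.w_q] using h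
    let g' : Over.mk ((a ≫ (C i).q) ≫ (C i).base.hom) ⟶ (C j).base := Over.homMk (b ≫ (C j).q) (by
      show (b ≫ (C j).q) ≫ (C j).base.hom = (a ≫ (C i).q) ≫ (C i).base.hom
      rw [← Over.w (α j).base, ← Over.w (α i).base, ← Category.assoc, ← hq, Category.assoc])
    have hg : g' ≫ (α j).base = g ≫ (α i).base := Over.OverMorphism.ext hq.symm
    haveI := IsFibGrpd.isStronglyCartesian (p := (Fam f).p) (α j)
    haveI : (Obj.forget f).IsHomLift ((eqToHom hD ≫ g') ≫ (Obj.forget f).map (α j)) (μ ≫ α i) := by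
      have : (eqToHom hD ≫ g') ≫ (Obj.forget f).map (α j) = (Obj.forget f).map (μ ≫ α i) := by
        show (eqToHom hD ≫ g') ≫ (α j).base = μ.base ≫ (α i).base
        rw [hμb]
        exact (Category.assoc _ _ _).trans ((congrArg (eqToHom hD ≫ ·) hg).trans (Category.assoc _ _ _).symm)
      rw [this]
      exact IsHomLift.map (p := Obj.forget f) _
    obtain ⟨ν, ⟨hν, hνα⟩, -⟩ := Functor.IsStronglyCartesian.universal_property' (p := (Obj.forget f))
      (f := (Obj.forget f).map (α j)) (φ := α j) (a' := D) (eqToHom hD ≫ g') (μ ≫ α i)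
    have hνb : ν.base = eqToHom hD ≫ g' := by
      haveI := hν
      exact (IsHomLift.eq_of_isHomLift (Obj.forget f) (eqToHom hD ≫ g') ν).symm
    let s : Y ⟶ D.XT := D.isPullback.lift (a ≫ (C i).p) (eqToHom hD.symm).left (by
      rw [Over.w (eqToHom hD.symm), Category.assoc, (C i).isPullback.w, ← Category.assoc]; rfl)
    have hs : s ≫ μ.top = a := by
      refine (C i).isPullback.hom_ext ?_ ?_
      · rw [Category.assoc, μ.w_p]; exact IsPullback.lift_fst _ _ _ _
      · rw [Category.assoc, μ.w_q, ← Category.assoc, IsPullback.lift_snd, ← Over.comp_left, hμb]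
        simp [g]
    have hp : a ≫ (C i).p = b ≫ (C j).p := by
      have h := congrArg (· ≫ A.p) (ea.trans eb.symm)
      simpa only [t, Category.assoc, Obj.Hom.w_p] using h
    have hs' : s ≫ ν.top = b := by
      refine (C j).isPullback.hom_ext ?_ ?_
      · rw [Category.assoc, ν.w_p, ← hp]; exact IsPullback.lift_fst _ _ _ _
      · rw [Category.assoc, ν.w_q, ← Category.assoc, IsPullback.lift_snd, ← Over.comp_left, hνb]
        simp [g']
    have hbq : b ≫ (β j).top = a ≫ (β i).top := by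
      rw [← hE, ← hE, ← Category.assoc, eb, ← Category.assoc, ea]
    have kα : θ (α i) a ea ≫ θ μ s hs = θ (α j) b eb ≫ θ ν s hs' := by
      have e₁ : s ≫ (μ ≫ α i).top = q := by rw [Obj.comp_top, reassoc_of% hs, ea]
      have e₂ : s ≫ (ν ≫ α j).top = q := by rw [Obj.comp_top, reassoc_of% hs', eb]
      rw [← θ_comp μ (α i) s hs ea e₁, ← θ_comp ν (α j) s hs' eb e₂]
      exact θ_congr hνα.symm s e₁ e₂
    have kβ : θ (β i) a rfl ≫ θ μ s hs = θ (β j) b hbq ≫ θ ν s hs' := by
      have e₁ : s ≫ (μ ≫ β i).top = a ≫ (β i).top := by rw [Obj.comp_top, reassoc_of% hs]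
      have e₂ : s ≫ (ν ≫ β j).top = a ≫ (β i).top := by rw [Obj.comp_top, reassoc_of% hs', hbq]
      rw [← θ_comp μ (β i) s hs rfl e₁, ← θ_comp ν (β j) s hs' hbq e₂]
      exact θ_congr (hcompat i j D μ ν hνα.symm) s e₁ e₂
    have key : θ (β i) a rfl ≫ inv (θ (α i) a ea) = θ (β j) b hbq ≫ inv (θ (α j) b eb) := by
      rw [← cancel_mono (θ (α i) a ea ≫ θ μ s hs)]
      simp only [Category.assoc, IsIso.inv_hom_id_assoc]
      rw [kα, IsIso.inv_hom_id_assoc, kβ]
    have expand : ∀ (k : κ₀) (x : Y ⟶ (C k).XT) (ex : x ≫ t k = q) (exb : x ≫ (β k).top = a ≫ (β i).top),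
        (Scheme.Modules.pullback x).map (φ k) ≫ (compIso A.E x ex).hom =
          (compIso (pb (etop w) B.E) x ex).hom ≫ (compIso B.E q (by
            rw [← ea, Category.assoc, hE])).hom ≫
            θ (β k) x exb ≫ inv (θ (α k) x ex) := by
      intro k x ex exb
      haveI := (inferInstance : IsIso ((Scheme.Modules.pullback x).map (κ (α k).top (α k).c)))
      simp only [φ, Functor.map_comp, Functor.map_inv, Category.assoc]
      simp only [map_κ (β k) x exb, map_κ (α k) x ex, IsIso.inv_comp, IsIso.Iso.inv_hom, Category.assoc]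
      rw [reassoc_of% (compIso_assoc B.E (t k) x (hE k) exb ex (by rw [← ea, Category.assoc, hE]))]
      simp
    rw [← cancel_mono (compIso A.E b eb).hom]
    simp only [Category.assoc, Iso.inv_hom_id, Category.comp_id]
    rw [expand i a ea rfl, expand j b eb hbq, Iso.inv_hom_id_assoc, key]
  obtain ⟨ψ, hψ⟩ := QCohDescLib.exists_hom_descend t (tops_mem α hcov) (pb (etop w) B.E) A.E φ hφ
  haveI : IsIso ψ := by
    haveI : ∀ i, IsIso ((Scheme.Modules.pullback (t i)).map ψ) := fun i => by rw [hψ i]; infer_instance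
    exact QCohDescLib.isIso_of_pullback_family t (DescLib.ofArrows_surj (tops_mem α hcov)) ψ inferInstance
  let n : A ⟶ B :=
    { base := w
      top := etop w
      w_p := etop_p w
      w_q := etop_q w
      c := (Scheme.Modules.pullbackPushforwardAdjunction (etop w)).homEquiv _ _ ψ
      cart := isCart_of_iso (etop w) ψ }
  refine ⟨n, rfl, fun i => hom_ext_κ (hb i).symm (hE i) fun e => QCohDescLib.hom_ext_puSec _ fun U x => ?_⟩
  have l₀ : (α i).top ⁻¹ᵁ (etop w ⁻¹ᵁ U) ≤ (β i).top ⁻¹ᵁ U := by rw [← hE i]; exact le_refl _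
  rw [θ_puSec (α i ≫ n) _ (Category.id_comp _) (le_refl _), θ_puSec (β i) _ e l₀]
  have h1 : (α i ≫ n).c.app U x = (C i).E.presheaf.map (homOfLE l₀).op ((β i).c.app U x) := by
    have hn : n.c.app U x = ψ.app (etop w ⁻¹ᵁ U) (puSec (etop w) x) :=
      (κ_puSec (etop w) n.c x).symm.trans (congr($(congrArg (fun v => Scheme.Modules.Hom.app v (etop w ⁻¹ᵁ U))
        (homEquiv_κ (etop w) ψ)) _))
    rw [Obj.comp_c_app, hn]
    show (α i).c.app (etop w ⁻¹ᵁ U) (ψ.app (etop w ⁻¹ᵁ U) (puSec (etop w) x)) = _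
    rw [← κ_puSec (α i).top (α i).c, ← KFlatLib.puSec_natural, hψ i]
    show (κ (α i).top (α i).c).app _ ((inv (κ (α i).top (α i).c)).app _ ((κ (β i).top (β i).c).app _
      ((compIso B.E (t i) (hE i)).hom.app _ (puSec (t i) (puSec (etop w) x))))) = _
    refine (congr($(congrArg (fun v => Scheme.Modules.Hom.app v ((α i).top ⁻¹ᵁ (etop w ⁻¹ᵁ U)))
      (IsIso.inv_hom_id (κ (α i).top (α i).c))) _)).trans ?_
    show (κ (β i).top (β i).c).app _ ((compIso B.E (t i) (hE i)).hom.app _ (puSec (t i) (puSec (etop w) x))) = _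
    rw [QCohDescLib.compIso_puSec B.E (t i) (hE i) x l₀, KFlatLib.puSecLE_apply, QCohLib.app_map, κ_puSec]
  rw [h1, KFlatLib.puSecLE_apply, KFlatLib.puSecLE_apply]
  have nat := congr($(((Scheme.Modules.pullbackPushforwardAdjunction (𝟙 (C i).XT)).unit.app
    (C i).E).mapPresheaf.naturality (homOfLE l₀).op) ((β i).c.app U x))
  refine (congrArg _ nat).trans ?_
  show (pb (𝟙 (C i).XT) (C i).E).presheaf.map _ ((pb (𝟙 (C i).XT) (C i).E).presheaf.map _ _) = _
  rw [← ConcreteCategory.comp_apply, ← Functor.map_comp]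
  rfl

end descend

end ModStackLib
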