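import Groth.Agent.ModStackLib.Datum
import Groth.Agent.ModStackLib.Hom
import Groth.Agent.ModStackLib.Descend
import Groth.Agent.QuotFpqcLib.Cover
import Groth.Agent.SpTorsLib.Criterion
import Groth.Agent.S17417

/-!
# Flat finitely presented modules on base changes form a stack
-/

set_option autoImplicit false
set_option linter.all false
set_option backward.isDefEq.respectTransparency false
set_option backward.isDefEq.respectTransparency.types false

noncomputable section

universe u

open CategoryTheory CategoryTheory.Limits AlgebraicGeometry Opposite ModSt FibCat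
open KFlatLib (pb)
open QCohDescLib (compIso dMod evI dHom dHom_eq)

namespace ModStackLib

variable {X S : Scheme.{u}} {f : X ⟶ S} {T : Over S} {R : Sieve T}
  (K : Stk.sieveCat R ⥤ᵇ ModSt.Coh f)

theorem isIso_eqToHom_left {U V : Over S} (h : U = V) : IsIso (eqToHom h).left :=
  inferInstanceAs (IsIso ((Over.forget S).map (eqToHom h)))

/-- Factorization through a strongly cartesian morphism. -/
theorem exists_factor {D B C : Obj f} (α : B ⟶ C) (φ : D ⟶ C) (g : D.base ⟶ B.base)
    (hg : g ≫ α.base = φ.base) : ∃ χ : D ⟶ B, χ.base = g ∧ χ ≫ α = φ := by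
  haveI := IsFibGrpd.isStronglyCartesian (p := (Fam f).p) α
  haveI : (Obj.forget f).IsHomLift (g ≫ (Obj.forget f).map α) φ := by
    rw [show g ≫ (Obj.forget f).map α = (Obj.forget f).map φ from hg]
    exact IsHomLift.map (p := Obj.forget f) φ
  obtain ⟨χ, ⟨hχ, hχα⟩, -⟩ := Functor.IsStronglyCartesian.universal_property' (p := (Obj.forget f))
    (f := (Obj.forget f).map α) (φ := α) (a' := D) g φ
  refine ⟨χ, ?_, hχα⟩
  haveI := hχ
  exact (IsHomLift.eq_of_isHomLift (Obj.forget f) g χ).symm

/-- Cancellation of a strongly cartesian morphism. -/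
theorem cancel_cart {D B C : Obj f} (α : B ⟶ C) {χ χ' : D ⟶ B} (hb : χ.base = χ'.base) (h : χ ≫ α = χ' ≫ α) :
    χ = χ' := by
  haveI := IsFibGrpd.isStronglyCartesian (p := (Fam f).p) α
  haveI : (Obj.forget f).IsHomLift χ.base χ := IsHomLift.map (p := Obj.forget f) χ
  haveI : (Obj.forget f).IsHomLift χ.base χ' := by rw [hb]; exact IsHomLift.map (p := Obj.forget f) χ'
  exact Functor.IsStronglyCartesian.ext (Obj.forget f) ((Obj.forget f).map α) α χ.base h

/-- Two morphisms to members of a descent datum factor through one. -/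
theorem split {D : Obj f} {a b : (Stk.sieveCat R).obj} (μ : D ⟶ O K a) (ν : D.base ⟶ (O K b).base)
    (h : μ.base ≫ bh K a = ν ≫ bh K b) :
    ∃ (d : (Stk.sieveCat R).obj) (e : D ⟶ O K d) (m : d ⟶ a) (n : d ⟶ b),
      μ = e ≫ mp K m ∧ (e ≫ mp K n).base = ν ∧ IsIso e.base := by
  let d : (Stk.sieveCat R).obj := ⟨Over.mk (μ.base ≫ bh K a), R.downward_closed (bh_mem K a) _⟩
  let m : d ⟶ a := ObjectProperty.homMk (Over.homMk (μ.base ≫ eqToHom (baseEq K a)) (by
    show (μ.base ≫ eqToHom (baseEq K a)) ≫ a.obj.hom = μ.base ≫ bh K a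
    rw [Category.assoc]; rfl))
  let n : d ⟶ b := ObjectProperty.homMk (Over.homMk (ν ≫ eqToHom (baseEq K b)) (by
    show (ν ≫ eqToHom (baseEq K b)) ≫ b.obj.hom = μ.base ≫ bh K a
    rw [h, Category.assoc]; rfl))
  obtain ⟨e, heb, he⟩ := exists_factor (mp K m) μ (eqToHom (baseEq K d).symm) (by
    rw [base_mp]; simp [m])
  refine ⟨d, e, m, n, he.symm, ?_, heb ▸ inferInstance⟩
  rw [Obj.comp_base, heb, base_mp]
  simp [n]

section family

variable {ι : Type u} {V : ι → Over S} (g : ∀ i, V i ⟶ T) (hg : ∀ i, R (g i))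

/-- The members of the family. -/
def A (i : ι) : (Stk.sieveCat R).obj := ⟨Over.mk (g i), hg i⟩

variable (hfam : Presieve.ofArrows (fun i => (V i).left) (fun i => (g i).left) ∈ Scheme.fpqcPrecoverage T.left)

include hfam in
theorem fam_mem : Presieve.ofArrows (fun i => (O K (A g hg i)).base.left) (fun i => (bh K (A g hg i)).left) ∈
    Scheme.fpqcPrecoverage T.left :=
  Precoverage.mem_coverings_of_isPullback (fun i => (g i).left) hfam (𝟙 T.left) (fun i => (bh K (A g hg i)).left)
    (fun i => (eqToHom (baseEq K (A g hg i))).left) fun i => by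
      haveI := isIso_eqToHom_left (baseEq K (A g hg i))
      exact (IsPullback.of_vert_isIso ⟨(Category.comp_id _).trans (Over.comp_left _ _ _ _ _)⟩)

include hfam in
theorem tmap_mem : Presieve.ofArrows (fun i => (O K (A g hg i)).XT) (fun i => tmap K (A g hg i)) ∈
    Scheme.fpqcPrecoverage (pullback f T.hom) :=
  Precoverage.mem_coverings_of_isPullback (fun i => (bh K (A g hg i)).left) (fam_mem K g hg hfam)
    (pullback.snd f T.hom) (fun i => tmap K (A g hg i)) (fun i => (O K (A g hg i)).q)
    fun i => isPullback_tmap K (A g hg i)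

/-- The object of the pullback of the family to a member. -/
def cc (a : (Stk.sieveCat R).obj) (i : ι) : (Stk.sieveCat R).obj :=
  ⟨Over.mk ((Over.homMk (pullback.fst (bh K a).left (bh K (A g hg i)).left) rfl :
    Over.mk (pullback.fst (bh K a).left (bh K (A g hg i)).left ≫ (O K a).base.hom) ⟶ (O K a).base) ≫ bh K a),
    R.downward_closed (bh_mem K a) _⟩

/-- Its morphism to the member. -/
def cm (a : (Stk.sieveCat R).obj) (i : ι) : cc K g hg a i ⟶ a :=
  ObjectProperty.homMk (Over.homMk ((Over.homMk (pullback.fst (bh K a).left (bh K (A g hg i)).left) rfl :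
    Over.mk (pullback.fst (bh K a).left (bh K (A g hg i)).left ≫ (O K a).base.hom) ⟶ (O K a).base) ≫
      eqToHom (baseEq K a)) (Category.assoc _ _ _))

theorem snd_w (a : (Stk.sieveCat R).obj) (i : ι) :
    pullback.snd (bh K a).left (bh K (A g hg i)).left ≫ (O K (A g hg i)).base.hom =
      pullback.fst (bh K a).left (bh K (A g hg i)).left ≫ (O K a).base.hom := by
  rw [← Over.w (bh K a), ← Over.w (bh K (A g hg i)), pullback.condition_assoc]

/-- Its morphism to the member of the family. -/
def cn (a : (Stk.sieveCat R).obj) (i : ι) : cc K g hg a i ⟶ A g hg i :=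
  ObjectProperty.homMk (Over.homMk ((Over.homMk (pullback.snd (bh K a).left (bh K (A g hg i)).left) (snd_w K g hg a i) :
    Over.mk (pullback.fst (bh K a).left (bh K (A g hg i)).left ≫ (O K a).base.hom) ⟶ (O K (A g hg i)).base) ≫
      eqToHom (baseEq K (A g hg i))) ((Category.assoc _ _ _).trans (Over.OverMorphism.ext pullback.condition.symm)))

include hfam in
theorem cm_mem (a : (Stk.sieveCat R).obj) :
    Presieve.ofArrows (fun i => (O K (cc K g hg a i)).base.left) (fun i => (mp K (cm K g hg a i)).base.left) ∈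
      Scheme.fpqcPrecoverage (O K a).base.left :=
  Precoverage.mem_coverings_of_isPullback (fun i => (bh K (A g hg i)).left) (fam_mem K g hg hfam) (bh K a).left
    (fun i => (mp K (cm K g hg a i)).base.left)
    (fun i => (eqToHom (baseEq K (cc K g hg a i))).left ≫ pullback.snd (bh K a).left (bh K (A g hg i)).left)
    fun i => by
      haveI := isIso_eqToHom_left (baseEq K (cc K g hg a i))
      refine (IsPullback.of_hasPullback (bh K a).left (bh K (A g hg i)).left).of_iso
        (asIso (eqToHom (baseEq K (cc K g hg a i))).left).symm (Iso.refl _) (Iso.refl _) (Iso.refl _) ?_ ?_ ?_ ?_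
      · rw [base_mp]
        simp [cm]
      · simp
      · simp
      · simp

theorem exists_to_cc {a d : (Stk.sieveCat R).obj} {i : ι} (m : d ⟶ a) (n : d ⟶ A g hg i) :
    ∃ r : d ⟶ cc K g hg a i, r ≫ cm K g hg a i = m ∧ r ≫ cn K g hg a i = n := by
  let u₁ : d.obj.left ⟶ (O K a).base := m.hom.left ≫ eqToHom (baseEq K a).symm
  let u₂ : d.obj.left ⟶ (O K (A g hg i)).base := n.hom.left ≫ eqToHom (baseEq K (A g hg i)).symm
  have h₁ : u₁ ≫ bh K a = d.obj.hom := by simp [u₁, bh, Over.w m.hom]
  have h₂ : u₂ ≫ bh K (A g hg i) = d.obj.hom := by simp [u₂, bh, Over.w n.hom]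
  have h : u₁.left ≫ (bh K a).left = u₂.left ≫ (bh K (A g hg i)).left :=
    congrArg CommaMorphism.left (h₁.trans h₂.symm)
  let v : d.obj.left ⟶ (cc K g hg a i).obj.left := Over.homMk (pullback.lift u₁.left u₂.left h) (by
    show pullback.lift u₁.left u₂.left h ≫ pullback.fst _ _ ≫ (O K a).base.hom = d.obj.left.hom
    rw [← Category.assoc, pullback.lift_fst, Over.w])
  refine ⟨ObjectProperty.homMk (Over.homMk v (by
    refine Eq.trans ?_ h₁
    show v ≫ _ ≫ bh K a = _
    rw [← Category.assoc]
    congr 1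
    exact Over.OverMorphism.ext (pullback.lift_fst _ _ _))), ObjectProperty.hom_ext _ (Over.OverMorphism.ext ?_),
    ObjectProperty.hom_ext _ (Over.OverMorphism.ext ?_)⟩
  · show v ≫ (_ ≫ eqToHom (baseEq K a)) = m.hom.left
    rw [← Category.assoc]
    rw [show v ≫ Over.homMk (pullback.fst (bh K a).left (bh K (A g hg i)).left) rfl = u₁ from
      Over.OverMorphism.ext (pullback.lift_fst _ _ _)]
    simp [u₁]
  · show v ≫ (_ ≫ eqToHom (baseEq K (A g hg i))) = n.hom.left
    rw [← Category.assoc]
    rw [show v ≫ Over.homMk (pullback.snd (bh K a).left (bh K (A g hg i)).left) (snd_w K g hg a i) = u₂ from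
      Over.OverMorphism.ext (pullback.lift_snd _ _ _)]
    simp [u₂]

end family

theorem qcoh_O (a : (Stk.sieveCat R).obj) : Coh.IsQCoh (O K a).E := HilbLCLib.isQCoh_of_isFP (K.obj a).property.2

variable (hR : R ∈ QuotSh.J Scheme.fppfPrecoverage S T)

include hR in
theorem nonempty_cocone : Nonempty (SpTorsLib.Cocone K) := by
  obtain ⟨ι, V, g, hg, hfam⟩ := QuotFpqc.exists_family_of_mem (QuotFpqc.mem_fpqc_of_mem_fppf hR)
  let D := datum K (A g hg)
  have ht := tmap_mem K g hg hfam
  have hq : ∀ i, Coh.IsQCoh (QCohDescLib.dObj D i) := fun i => qcoh_O K (A g hg i)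
  haveI := hq
  let M := dMod D
  haveI hM : Coh.IsQCoh M := QCohDescLib.isQCoh_dMod D ht
  haveI : ∀ i, IsIso (evI D i) := fun i => QCohDescLib.isIso_evI D ht i
  have hfp : CohB1.IsFP M := isFP_descend ht M fun i =>
    Groth.Agent.PerfLib.isFP_of_iso' (asIso (evI D i)).symm (K.obj (A g hg i)).property.2
  haveI : ∀ i, Flat (bh K (A g hg i)).left := fun i => DescLib.ofArrows_flat (fam_mem K g hg hfam) i
  have hflat : FlatMod.IsFlatOver (pullback.snd f T.hom) M :=
    isFlatOver_descend ht _ M (fun i => (O K (A g hg i)).q) (fun i => (bh K (A g hg i)).left)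
      (fun i => tmap_snd K (A g hg i)) fun i =>
        Groth.Agent.RelFlatLib.isFlatOver_of_iso _ (asIso (evI D i)).symm (K.obj (A g hg i)).property.1
  let A₀ : Obj f := ⟨T, pullback f T.hom, pullback.fst f T.hom, pullback.snd f T.hom,
    IsPullback.of_hasPullback f T.hom, M⟩
  let l : ∀ i, O K (A g hg i) ⟶ A₀ := fun i =>
    { base := bh K (A g hg i)
      top := tmap K (A g hg i)
      w_p := tmap_fst K _
      w_q := tmap_snd K _
      c := (Scheme.Modules.pullbackPushforwardAdjunction (tmap K (A g hg i))).homEquiv _ _ (evI D i)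
      cart := isCart_of_iso (tmap K (A g hg i)) (evI D i) }
  have hl : ∀ i {Y : Scheme.{u}} (s : Y ⟶ (O K (A g hg i)).XT) {q : Y ⟶ A₀.XT} (e : s ≫ (l i).top = q),
      θ (l i) s e = (compIso M s e).inv ≫ (Scheme.Modules.pullback s).map (evI D i) := fun i Y s q e => by
    rw [θ, homEquiv_κ]
  -- compatibility of the members
  have hcompat : ∀ (d : (Stk.sieveCat R).obj) (i j : ι) (m : d ⟶ A g hg i) (n : d ⟶ A g hg j),
      mp K m ≫ l i = mp K n ≫ l j := fun d i j m n => by
    refine hom_ext_κ ((base_bh K m).trans (base_bh K n).symm) ((top_tmap K m).trans (top_tmap K n).symm) fun e => ?_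
    have em : 𝟙 _ ≫ (mp K m).top = (mp K m).top := Category.id_comp _
    have en : 𝟙 _ ≫ (mp K n).top = (mp K n).top := Category.id_comp _
    have eij : (mp K n).top ≫ (l j).top = (mp K m ≫ l i).top := (top_tmap K n).trans (top_tmap K m).symm
    rw [θ_comp (mp K m) (l i) _ em rfl, θ_comp (mp K n) (l j) _ en eij, hl, hl]
    have key := QCohDescLib.evI_comm D (mp K m).top (mp K n).top _ rfl eij
    have hd : dHom D (mp K m).top (mp K n).top eij.symm = θ (mp K m) (𝟙 _) em ≫ inv (θ (mp K n) (𝟙 _) en) :=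
      φ_eq eij.symm m n (𝟙 _) em en
    rw [hd, Category.assoc] at key
    rw [Category.assoc, Category.assoc, Iso.inv_comp_eq, ← cancel_mono (inv (θ (mp K n) (𝟙 _) en))]
    simp only [Category.assoc, IsIso.hom_inv_id, Category.comp_id] at key ⊢
    exact key
  -- the legs
  have hex : ∀ a, ∃ n : O K a ⟶ A₀, n.base = bh K a ∧
      ∀ i, mp K (cm K g hg a i) ≫ n = mp K (cn K g hg a i) ≫ l i := fun a => by
    haveI := qcoh_O K a
    refine exists_hom (bh K a) (fun i => mp K (cm K g hg a i)) (fun i => mp K (cn K g hg a i) ≫ l i)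
      (fun i => (base_bh K (cn K g hg a i)).trans (base_bh K (cm K g hg a i)).symm) (cm_mem K g hg hfam a) ?_
    intro i j E μ ν h
    have hb : μ.base ≫ bh K (cc K g hg a i) = ν.base ≫ bh K (cc K g hg a j) := by
      rw [← base_bh K (cm K g hg a i), ← base_bh K (cm K g hg a j), ← Category.assoc, ← Category.assoc]
      exact congrArg (· ≫ bh K a) (congrArg Obj.Hom.base h)
    obtain ⟨d, e, m, k, rfl, hk, hiso⟩ := split K μ ν.base hb
    have hbe : e.base ≫ (mp K (k ≫ cm K g hg a j)).base = e.base ≫ (mp K (m ≫ cm K g hg a i)).base := by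
      have hb2 := congrArg Obj.Hom.base h
      simp only [Category.assoc, Obj.comp_base] at hb2
      rw [← hk, Obj.comp_base, Category.assoc] at hb2
      rw [mp_comp, mp_comp, Obj.comp_base, Obj.comp_base]
      exact hb2.symm
    have hmn : k ≫ cm K g hg a j = m ≫ cm K g hg a i := by
      haveI := hiso
      have h3 := (cancel_epi e.base).1 hbe
      rw [base_mp, base_mp, cancel_epi, cancel_mono] at h3
      exact ObjectProperty.hom_ext _ (Over.OverMorphism.ext h3)
    have hν : ν = e ≫ mp K k := cancel_cart (mp K (cm K g hg a j)) hk.symm (by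
      rw [← h, Category.assoc, Category.assoc, ← mp_comp, ← mp_comp, hmn])
    rw [hν]
    simp only [Category.assoc]
    rw [← Category.assoc (mp K m), ← Category.assoc (mp K k), ← mp_comp, ← mp_comp, hcompat d i j]
  choose n hnb hn using hex
  have hn' : ∀ (a d : (Stk.sieveCat R).obj) (i : ι) (m : d ⟶ a) (k : d ⟶ A g hg i),
      mp K m ≫ n a = mp K k ≫ l i := fun a d i m k => by
    obtain ⟨r, rfl, rfl⟩ := exists_to_cc K g hg m k
    rw [mp_comp, mp_comp, Category.assoc, Category.assoc, hn]
  refine ⟨{ pt := ⟨A₀, hflat, hfp⟩, pt_base := rfl, leg := fun a => ObjectProperty.homMk (n a),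
            leg_lift := fun a => ?_, leg_nat := fun a b m => ObjectProperty.hom_ext _ ?_ }⟩
  · exact IsHomLift.of_fac' (ModSt.Coh f).p _ _ (baseEq K a) rfl
      (show (n a).base = eqToHom (baseEq K a) ≫ a.obj.hom ≫ eqToHom (rfl : T = T) by
        rw [hnb a, eqToHom_refl, Category.comp_id]; rfl)
  · haveI := qcoh_O K a
    show mp K m ≫ n b = n a
    refine hom_unique (bh K a) (fun i => mp K (cm K g hg a i)) (fun i => mp K (cn K g hg a i) ≫ l i)
      (fun i => (base_bh K (cn K g hg a i)).trans (base_bh K (cm K g hg a i)).symm) (cm_mem K g hg hfam a)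
      ((congrArg ((mp K m).base ≫ ·) (hnb b)).trans (base_bh K m)) (hnb a) fun i => ?_
    show mp K (cm K g hg a i) ≫ mp K m ≫ n b = mp K (cm K g hg a i) ≫ n a
    rw [← Category.assoc, ← mp_comp, hn' b _ i _ (cn K g hg a i), hn]

include hR in
theorem existsUnique_of_cocones (c c' : SpTorsLib.Cocone K) :
    ∃! n : c.pt ⟶ c'.pt, (ModSt.Coh f).p.IsHomLift (𝟙 T) n ∧ ∀ a, c.leg a ≫ n = c'.leg a := by
  obtain ⟨ι, V, g, hg, hfam⟩ := QuotFpqc.exists_family_of_mem (QuotFpqc.mem_fpqc_of_mem_fppf hR)
  have e₁ : c.pt.obj.base = T := c.pt_base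
  have e₂ : c'.pt.obj.base = T := c'.pt_base
  have hb : ∀ a, (c.leg a).hom.base = bh K a ≫ eqToHom e₁.symm := fun a => by
    haveI := c.leg_lift a
    have := IsHomLift.fac' (ModSt.Coh f).p a.obj.hom (c.leg a)
    exact this.trans (Category.assoc _ _ _).symm
  have hb' : ∀ a, (c'.leg a).hom.base = bh K a ≫ eqToHom e₂.symm := fun a => by
    haveI := c'.leg_lift a
    have := IsHomLift.fac' (ModSt.Coh f).p a.obj.hom (c'.leg a)
    exact this.trans (Category.assoc _ _ _).symm
  let w : c.pt.obj.base ⟶ c'.pt.obj.base := eqToHom e₁ ≫ eqToHom e₂.symm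
  have hw : ∀ i, (c'.leg (A g hg i)).hom.base = (c.leg (A g hg i)).hom.base ≫ w := fun i => by
    rw [hb, hb']; simp [w]
  have hcov : Presieve.ofArrows (fun i => (O K (A g hg i)).base.left)
      (fun i => (c.leg (A g hg i)).hom.base.left) ∈ Scheme.fpqcPrecoverage c.pt.obj.base.left :=
    Precoverage.mem_coverings_of_isPullback (fun i => (bh K (A g hg i)).left) (fam_mem K g hg hfam)
      (eqToHom e₁).left (fun i => (c.leg (A g hg i)).hom.base.left) (fun i => 𝟙 _) fun i => by
        haveI := isIso_eqToHom_left e₁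
        refine (IsPullback.of_horiz_isIso ⟨?_⟩).flip
        rw [Category.id_comp, hb, ← Over.comp_left]
        simp
  haveI : Coh.IsQCoh c.pt.obj.E := HilbLCLib.isQCoh_of_isFP c.pt.property.2
  have hnat : ∀ (a b : (Stk.sieveCat R).obj) (m : a ⟶ b), mp K m ≫ (c.leg b).hom = (c.leg a).hom := fun a b m =>
    congrArg InducedCategory.Hom.hom (c.leg_nat a b m)
  have hnat' : ∀ (a b : (Stk.sieveCat R).obj) (m : a ⟶ b), mp K m ≫ (c'.leg b).hom = (c'.leg a).hom := fun a b m =>
    congrArg InducedCategory.Hom.hom (c'.leg_nat a b m)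
  obtain ⟨n, hnb, hn⟩ := exists_hom w (fun i => (c.leg (A g hg i)).hom) (fun i => (c'.leg (A g hg i)).hom) hw hcov
    (fun i j E μ ν h => by
      have hbb : μ.base ≫ bh K (A g hg i) = ν.base ≫ bh K (A g hg j) := by
        have := congrArg Obj.Hom.base h
        simp only [Obj.comp_base, hb] at this
        rw [← Category.assoc, ← Category.assoc] at this
        exact (cancel_mono (eqToHom e₁.symm)).1 this
      obtain ⟨d, e, m, k, rfl, hk, hiso⟩ := split K μ ν.base hbb
      have hν : ν = e ≫ mp K k := cancel_cart (c.leg (A g hg j)).hom hk.symm (by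
        rw [← h, Category.assoc, Category.assoc, hnat, hnat])
      rw [hν, Category.assoc, Category.assoc, hnat', hnat'])
  have hall : ∀ a, (c.leg a).hom ≫ n = (c'.leg a).hom := fun a => by
    refine hom_unique (bh K a ≫ eqToHom e₂.symm) (fun i => mp K (cm K g hg a i))
      (fun i => mp K (cn K g hg a i) ≫ (c'.leg (A g hg i)).hom) (fun i => ?_) (cm_mem K g hg hfam a) ?_ (hb' a)
      fun i => ?_
    · rw [Obj.comp_base, hb', ← Category.assoc, base_bh, ← base_bh K (cm K g hg a i), Category.assoc]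
    · rw [Obj.comp_base, hb, hnb]; simp [w]
    · show mp K (cm K g hg a i) ≫ (c.leg a).hom ≫ n = mp K (cm K g hg a i) ≫ (c'.leg a).hom
      rw [← Category.assoc, hnat, ← hnat _ _ (cn K g hg a i), Category.assoc, hn, hnat', hnat']
  refine ⟨ObjectProperty.homMk n, ⟨IsHomLift.of_fac' (ModSt.Coh f).p _ _ e₁ e₂
    (show n.base = eqToHom e₁ ≫ 𝟙 T ≫ eqToHom e₂.symm by simp [hnb, w]),
    fun a => ObjectProperty.hom_ext _ (hall a)⟩, ?_⟩
  rintro n' ⟨hl, hn'⟩
  refine ObjectProperty.hom_ext _ (hom_unique w (fun i => (c.leg (A g hg i)).hom)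
    (fun i => (c'.leg (A g hg i)).hom) hw hcov ?_ hnb fun i => ?_)
  · haveI := hl
    have := IsHomLift.fac' (ModSt.Coh f).p (𝟙 T) n'
    exact this.trans (by simp [w])
  · exact (congrArg InducedCategory.Hom.hom (hn' (A g hg i))).trans (hn i).symm

theorem isStack_coh : Stk.IsStack (QuotSh.J Scheme.fppfPrecoverage S) (ModSt.Coh f) := by
  haveI : FibCat.IsFibGrpd (ModSt.Coh f).p := BlowRegLib.ModFibGrpd.coh_isFibGrpd
  exact ⟨inferInstance, fun U R hR => SpTorsLib.isStackFor_of_initial (fun K => nonempty_cocone K hR)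
    (fun K c c' => existsUnique_of_cocones K hR c c')⟩

end ModStackLib
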