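import Groth.Agent.ModStackLib.Kappa

/-!
# The descent datum of modules of a descent datum of families
-/

set_option autoImplicit false
set_option linter.all false
set_option backward.isDefEq.respectTransparency false
set_option backward.isDefEq.respectTransparency.types false

noncomputable section

universe u

open CategoryTheory CategoryTheory.Limits AlgebraicGeometry Opposite ModSt FibCat
open KFlatLib (pb)
open QCohDescLib (compIso mapComp'_hom_app mapComp'_inv_app)

namespace ModStackLib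

variable {X S : Scheme.{u}} {f : X ⟶ S} {T : Over S} {R : Sieve T}
  (K : Stk.sieveCat R ⥤ᵇ ModSt.Coh f)

/-- The object over an object of the sieve. -/
abbrev O (a : (Stk.sieveCat R).obj) : Obj f := (K.obj a).obj

/-- The morphism over a morphism of the sieve. -/
abbrev mp {a b : (Stk.sieveCat R).obj} (m : a ⟶ b) : O K a ⟶ O K b := (K.map m).hom

theorem mp_id (a : (Stk.sieveCat R).obj) : mp K (𝟙 a) = 𝟙 _ := by
  show (K.map (𝟙 a)).hom = 𝟙 _
  rw [K.toFunctor.map_id]
  rfl

theorem mp_comp {a b c : (Stk.sieveCat R).obj} (m : a ⟶ b) (n : b ⟶ c) : mp K (m ≫ n) = mp K m ≫ mp K n := by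
  show (K.map (m ≫ n)).hom = (K.map m).hom ≫ (K.map n).hom
  rw [K.toFunctor.map_comp]
  rfl

theorem baseEq (a : (Stk.sieveCat R).obj) : (O K a).base = a.obj.left := K.w_obj a

theorem base_mp {a b : (Stk.sieveCat R).obj} (m : a ⟶ b) :
    (mp K m).base = eqToHom (baseEq K a) ≫ m.hom.left ≫ eqToHom (baseEq K b).symm :=
  CategoryTheory.Functor.congr_hom K.w m

/-- The map of bases to the object covered. -/
def bh (a : (Stk.sieveCat R).obj) : (O K a).base ⟶ T := eqToHom (baseEq K a) ≫ a.obj.hom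

theorem base_bh {a b : (Stk.sieveCat R).obj} (m : a ⟶ b) : (mp K m).base ≫ bh K b = bh K a := by
  rw [base_mp, bh, bh]
  simp [Over.w m.hom]

theorem bh_mem (a : (Stk.sieveCat R).obj) : R (bh K a) := R.downward_closed a.property _

/-- The map of total spaces. -/
def tmap (a : (Stk.sieveCat R).obj) : (O K a).XT ⟶ pullback f T.hom :=
  pullback.lift (O K a).p ((O K a).q ≫ (bh K a).left)
    (((O K a).isPullback.w).trans (((congrArg ((O K a).q ≫ ·) (Over.w (bh K a))).symm).trans (Category.assoc _ _ _).symm))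

theorem tmap_fst (a : (Stk.sieveCat R).obj) : tmap K a ≫ pullback.fst f T.hom = (O K a).p :=
  pullback.lift_fst _ _ _

theorem tmap_snd (a : (Stk.sieveCat R).obj) : tmap K a ≫ pullback.snd f T.hom = (O K a).q ≫ (bh K a).left :=
  pullback.lift_snd _ _ _

theorem top_tmap {a b : (Stk.sieveCat R).obj} (m : a ⟶ b) : (mp K m).top ≫ tmap K b = tmap K a := by
  apply pullback.hom_ext
  · rw [Category.assoc, tmap_fst, (mp K m).w_p, tmap_fst]
  · rw [Category.assoc, tmap_snd, ← Category.assoc, (mp K m).w_q, Category.assoc, ← Over.comp_left, base_bh,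
      tmap_snd]

theorem isPullback_tmap (a : (Stk.sieveCat R).obj) :
    IsPullback (tmap K a) (O K a).q (pullback.snd f T.hom) (bh K a).left := by
  refine IsPullback.of_right ?_ (tmap_snd K a) (IsPullback.of_hasPullback f T.hom)
  rw [tmap_fst, Over.w]
  exact (O K a).isPullback

section pair

variable {Y : Scheme.{u}} {a : (Stk.sieveCat R).obj} (x : Y ⟶ (O K a).XT)

/-- The base of a point. -/
def wPt : Over S := Over.mk ((x ≫ (O K a).q) ≫ (O K a).base.hom)

/-- The base morphism of a point. -/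
def hPt : wPt K x ⟶ (O K a).base := Over.homMk (x ≫ (O K a).q) rfl

/-- The object of the sieve under a point. -/
def cPt : (Stk.sieveCat R).obj := ⟨Over.mk (hPt K x ≫ bh K a), R.downward_closed (bh_mem K a) _⟩

/-- The section over it. -/
def sPt : Y ⟶ (O K (cPt K x)).XT :=
  (O K (cPt K x)).isPullback.lift (x ≫ (O K a).p) (eqToHom (baseEq K (cPt K x)).symm).left
    (by rw [Over.w, Category.assoc, (O K a).isPullback.w, ← Category.assoc]; rfl)

theorem sPt_p : sPt K x ≫ (O K (cPt K x)).p = x ≫ (O K a).p := IsPullback.lift_fst _ _ _ _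

theorem sPt_q : sPt K x ≫ (O K (cPt K x)).q = (eqToHom (baseEq K (cPt K x)).symm).left :=
  IsPullback.lift_snd _ _ _ _

variable {K x}

theorem exists_mor {d : (Stk.sieveCat R).obj} (z : Y ⟶ (O K d).XT) (h : x ≫ tmap K a = z ≫ tmap K d) :
    ∃ l : cPt K x ⟶ d, sPt K x ≫ (mp K l).top = z := by
  have hp : x ≫ (O K a).p = z ≫ (O K d).p := by
    have := congrArg (· ≫ pullback.fst f T.hom) h
    simpa only [Category.assoc, tmap_fst] using this
  have hq : (x ≫ (O K a).q) ≫ (bh K a).left = (z ≫ (O K d).q) ≫ (bh K d).left := by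
    have := congrArg (· ≫ pullback.snd f T.hom) h
    simpa only [Category.assoc, tmap_snd] using this
  let k : wPt K x ⟶ (O K d).base := Over.homMk (z ≫ (O K d).q) (by
    show (z ≫ (O K d).q) ≫ (O K d).base.hom = (x ≫ (O K a).q) ≫ (O K a).base.hom
    rw [← Over.w (bh K d), ← Over.w (bh K a), ← Category.assoc, ← hq, Category.assoc])
  have hk : k ≫ bh K d = hPt K x ≫ bh K a := Over.OverMorphism.ext hq.symm
  let l : cPt K x ⟶ d := ObjectProperty.homMk (Over.homMk (k ≫ eqToHom (baseEq K d)) (by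
    show (k ≫ eqToHom (baseEq K d)) ≫ d.obj.hom = hPt K x ≫ bh K a
    rw [Category.assoc]
    exact hk))
  refine ⟨l, (O K d).isPullback.hom_ext ?_ ?_⟩
  · rw [Category.assoc, (mp K l).w_p, sPt_p, hp]
  · rw [Category.assoc, (mp K l).w_q, ← Category.assoc, sPt_q, ← Over.comp_left, base_mp]
    simp [l, k]

/-- The chosen morphism to a second point. -/
def nPt {d : (Stk.sieveCat R).obj} (z : Y ⟶ (O K d).XT) (h : x ≫ tmap K a = z ≫ tmap K d) : cPt K x ⟶ d :=
  (exists_mor z h).choose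

theorem sPt_nPt {d : (Stk.sieveCat R).obj} (z : Y ⟶ (O K d).XT) (h : x ≫ tmap K a = z ≫ tmap K d) :
    sPt K x ≫ (mp K (nPt z h)).top = z :=
  (exists_mor z h).choose_spec

variable {b : (Stk.sieveCat R).obj} {y : Y ⟶ (O K b).XT}

/-- The gluing map of the modules. -/
def φ (h : x ≫ tmap K a = y ≫ tmap K b) : pb x (O K a).E ⟶ pb y (O K b).E :=
  θ (mp K (nPt x rfl)) (sPt K x) (sPt_nPt x rfl) ≫ inv (θ (mp K (nPt y h)) (sPt K x) (sPt_nPt y h))

theorem φ_eq (h : x ≫ tmap K a = y ≫ tmap K b) {c : (Stk.sieveCat R).obj} (m : c ⟶ a) (n : c ⟶ b)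
    (s : Y ⟶ (O K c).XT) (em : s ≫ (mp K m).top = x) (en : s ≫ (mp K n).top = y) :
    φ h = θ (mp K m) s em ≫ inv (θ (mp K n) s en) := by
  have hc : x ≫ tmap K a = s ≫ tmap K c := by rw [← em, Category.assoc, top_tmap]
  obtain ⟨r, hr⟩ := exists_mor s hc
  have key : ∀ {d : (Stk.sieveCat R).obj} (m' : c ⟶ d) (l : cPt K x ⟶ d) (z : Y ⟶ (O K d).XT)
      (e : s ≫ (mp K m').top = z) (el : sPt K x ≫ (mp K l).top = z),
      θ (mp K l) (sPt K x) el = θ (mp K m') s e ≫ θ (mp K r) (sPt K x) hr := by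
    intro d m' l z e el
    have hl : l = r ≫ m' := by
      have hq := congrArg (· ≫ (O K d).q) (el.trans e.symm)
      have e₂ : sPt K x ≫ (mp K (r ≫ m')).top = z := by
        rw [mp_comp, Obj.comp_top, ← Category.assoc, hr, e]
      have hq2 := congrArg (· ≫ (O K d).q) (el.trans e₂.symm)
      simp only [Category.assoc, Obj.Hom.w_q] at hq2
      rw [← Category.assoc, ← Category.assoc, sPt_q, ← Over.comp_left, ← Over.comp_left, base_mp, base_mp] at hq2
      apply ObjectProperty.hom_ext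
      apply Over.OverMorphism.ext
      apply Over.OverMorphism.ext
      simp only [eqToHom_trans_assoc, eqToHom_refl, Category.id_comp, Over.comp_left] at hq2
      haveI : IsIso (eqToHom (baseEq K d).symm).left :=
        inferInstanceAs (IsIso ((Over.forget S).map (eqToHom (baseEq K d).symm)))
      exact (cancel_mono _).1 hq2
    subst hl
    rw [θ_congr (mp_comp K r m') _ el (by rw [Obj.comp_top, ← Category.assoc, hr, e]), θ_comp _ _ _ hr e]
  rw [φ, IsIso.comp_inv_eq, key m _ x em (sPt_nPt x rfl), key n _ y en (sPt_nPt y h)]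
  simp

end pair

theorem φ_self {Y : Scheme.{u}} {a : (Stk.sieveCat R).obj} (x : Y ⟶ (O K a).XT) :
    φ (rfl : x ≫ tmap K a = x ≫ tmap K a) = 𝟙 _ := by
  rw [φ_eq rfl (𝟙 a) (𝟙 a) x (by rw [mp_id]; exact Category.comp_id x) (by rw [mp_id]; exact Category.comp_id x),
    IsIso.hom_inv_id]

theorem φ_comp {Y : Scheme.{u}} {a b d : (Stk.sieveCat R).obj} {x : Y ⟶ (O K a).XT} {y : Y ⟶ (O K b).XT}
    {z : Y ⟶ (O K d).XT} (h : x ≫ tmap K a = y ≫ tmap K b) (h' : y ≫ tmap K b = z ≫ tmap K d) :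
    φ h ≫ φ h' = φ (h.trans h') := by
  rw [φ_eq h' (nPt y h) (nPt z (h.trans h')) (sPt K x) (sPt_nPt y h) (sPt_nPt z (h.trans h')), φ, φ]
  simp

theorem φ_pull {Y Y' : Scheme.{u}} (g : Y' ⟶ Y) {a b : (Stk.sieveCat R).obj} {x : Y ⟶ (O K a).XT}
    {y : Y ⟶ (O K b).XT} (h : x ≫ tmap K a = y ≫ tmap K b) {x' : Y' ⟶ (O K a).XT} {y' : Y' ⟶ (O K b).XT}
    (hx : g ≫ x = x') (hy : g ≫ y = y') (h' : x' ≫ tmap K a = y' ≫ tmap K b) :
    (Scheme.Modules.pullback g).map (φ h) ≫ (compIso (O K b).E g hy).hom =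
      (compIso (O K a).E g hx).hom ≫ φ h' := by
  have e₁ : (g ≫ sPt K x) ≫ (mp K (nPt x rfl)).top = x' := by rw [Category.assoc, sPt_nPt, hx]
  have e₂ : (g ≫ sPt K x) ≫ (mp K (nPt y h)).top = y' := by rw [Category.assoc, sPt_nPt, hy]
  have p₁ := θ_pull (mp K (nPt x rfl)) g (sPt K x) (sPt_nPt x rfl) hx (rfl : g ≫ sPt K x = _) e₁
  have p₂ := θ_pull (mp K (nPt y h)) g (sPt K x) (sPt_nPt y h) hy (rfl : g ≫ sPt K x = _) e₂
  rw [φ_eq h' (nPt x rfl) (nPt y h) (g ≫ sPt K x) e₁ e₂, φ, Functor.map_comp, Functor.map_inv, Category.assoc,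
    ← reassoc_of% p₁]
  congr 1
  rw [IsIso.inv_comp_eq, reassoc_of% p₂, IsIso.hom_inv_id, Category.comp_id]

variable {ι : Type u} (A : ι → (Stk.sieveCat R).obj)

/-- The descent datum. -/
def datum : Desc.modPF.{u}.DescentData (fun i => tmap K (A i)) where
  obj i := (O K (A i)).E
  hom Y q i j x y hx hy := φ (hx.trans hy.symm)
  pullHom_hom Y' Y g q q' hq i j x y hx hy x' y' hx' hy' := by
    simp only [Pseudofunctor.LocallyDiscreteOpToCat.pullHom]
    rw [mapComp'_hom_app x g x' hx', mapComp'_inv_app y g y' hy']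
    rw [Iso.inv_comp_eq]
    exact φ_pull K g _ hx' hy' _
  hom_self Y q i x hx := φ_self K x
  hom_comp Y q i j k x y z hx hy hz := φ_comp K _ _

end ModStackLib
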