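import Groth.Agent.BlowRegLib.ModFibGrpd
import Groth.Agent.QCohDescLib.EvIso

/-!
# Morphisms of modules on base changes, in adjoint form
-/

set_option autoImplicit false
set_option linter.all false
set_option backward.isDefEq.respectTransparency false
set_option backward.isDefEq.respectTransparency.types false

noncomputable section

universe u

open CategoryTheory CategoryTheory.Limits AlgebraicGeometry Opposite ModSt FibCat
open KFlatLib (pb puSec puSecLE)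
open QCohDescLib (compIso hom_ext_puSec puSecLE_rfl pullLE_eq_compIso pullLE_puSecLE)

namespace ModStackLib

section calc₀

variable {Y Z W : Scheme.{u}}

/-- Pulling a pulled back section back further. -/
theorem compIso_puSecLE (g : W ⟶ Y) {h : Y ⟶ Z} {h' : W ⟶ Z} (e : g ≫ h = h') (M : Z.Modules) {U : Z.Opens}
    {O : W.Opens} (lc : O ≤ g ⁻¹ᵁ (h ⁻¹ᵁ U)) (lq : O ≤ h' ⁻¹ᵁ U) (m : Γ(M, U)) :
    (compIso M g e).hom.app O (puSecLE g (pb h M) lc (puSec h m)) = puSecLE h' M lq m := by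
  rw [← pullLE_eq_compIso, ← puSecLE_rfl M m]
  exact pullLE_puSecLE M g e le_rfl lc lq m

theorem compIso_inv_puSec (g : W ⟶ Y) {h : Y ⟶ Z} {h' : W ⟶ Z} (e : g ≫ h = h') (M : Z.Modules) {U : Z.Opens}
    (lc : h' ⁻¹ᵁ U ≤ g ⁻¹ᵁ (h ⁻¹ᵁ U)) (m : Γ(M, U)) :
    (compIso M g e).inv.app (h' ⁻¹ᵁ U) (puSec h' m) = puSecLE g (pb h M) lc (puSec h m) := by
  refine (ConcreteCategory.bijective_of_isIso ((compIso M g e).hom.app (h' ⁻¹ᵁ U))).1 ?_
  refine (congr($(congrArg (fun ψ => Scheme.Modules.Hom.app ψ (h' ⁻¹ᵁ U)) (compIso M g e).inv_hom_id) _)).trans ?_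
  rw [compIso_puSecLE g e M lc le_rfl]
  exact (puSecLE_rfl M m).symm

/-- The adjoint of a comparison map. -/
def κ (h : Y ⟶ Z) {N : Z.Modules} {M : Y.Modules} (c : N ⟶ (Scheme.Modules.pushforward h).obj M) : pb h N ⟶ M :=
  ((Scheme.Modules.pullbackPushforwardAdjunction h).homEquiv N M).symm c

theorem κ_puSec (h : Y ⟶ Z) {N : Z.Modules} {M : Y.Modules} (c : N ⟶ (Scheme.Modules.pushforward h).obj M)
    {U : Z.Opens} (x : Γ(N, U)) : (κ h c).app (h ⁻¹ᵁ U) (puSec h x) = c.app U x :=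
  congr($(congrArg (fun φ => Scheme.Modules.Hom.app φ U)
    (((Scheme.Modules.pullbackPushforwardAdjunction h).homEquiv N M).apply_symm_apply c)) x)

theorem homEquiv_κ (h : Y ⟶ Z) {N : Z.Modules} {M : Y.Modules} (v : pb h N ⟶ M) :
    κ h ((Scheme.Modules.pullbackPushforwardAdjunction h).homEquiv N M v) = v :=
  ((Scheme.Modules.pullbackPushforwardAdjunction h).homEquiv N M).symm_apply_apply v

theorem isIso_κ (h : Y ⟶ Z) {N : Z.Modules} {M : Y.Modules} {c : N ⟶ (Scheme.Modules.pushforward h).obj M}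
    (hc : IsCart h c) : IsIso (κ h c) := by
  rw [isIso_iff_coyoneda_map_bijective]
  intro M'
  have e : (fun w : M ⟶ M' => κ h c ≫ w) = ((Scheme.Modules.pullbackPushforwardAdjunction h).homEquiv N M').symm ∘
      (fun w : M ⟶ M' => c ≫ (Scheme.Modules.pushforward h).map w) := by
    funext w
    exact ((Scheme.Modules.pullbackPushforwardAdjunction h).homEquiv_naturality_right_symm c w).symm
  rw [e]
  exact (Equiv.bijective _).comp (hc M')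

theorem isCart_of_iso (h : Y ⟶ Z) {N : Z.Modules} {M : Y.Modules} (v : pb h N ⟶ M) [IsIso v] :
    IsCart h ((Scheme.Modules.pullbackPushforwardAdjunction h).homEquiv N M v) := by
  intro M'
  have e : (fun w : M ⟶ M' => (Scheme.Modules.pullbackPushforwardAdjunction h).homEquiv N M v ≫
      (Scheme.Modules.pushforward h).map w) =
      ((Scheme.Modules.pullbackPushforwardAdjunction h).homEquiv N M') ∘ (fun w : M ⟶ M' => v ≫ w) := by
    funext w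
    exact ((Scheme.Modules.pullbackPushforwardAdjunction h).homEquiv_naturality_right v w).symm
  rw [e]
  exact (Equiv.bijective _).comp (isIso_iff_coyoneda_map_bijective v |>.1 inferInstance M')

end calc₀

variable {X S : Scheme.{u}} {f : X ⟶ S}

section theta

variable {A B C : Obj f} {Y Y' : Scheme.{u}}

/-- The identification of pullbacks along the top of a morphism. -/
def θ (φ : A ⟶ B) (s : Y ⟶ A.XT) {a : Y ⟶ B.XT} (e : s ≫ φ.top = a) : pb a B.E ⟶ pb s A.E :=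
  (compIso B.E s e).inv ≫ (Scheme.Modules.pullback s).map (κ φ.top φ.c)

instance isIso_θ (φ : A ⟶ B) (s : Y ⟶ A.XT) {a : Y ⟶ B.XT} (e : s ≫ φ.top = a) : IsIso (θ φ s e) := by
  haveI := isIso_κ φ.top φ.cart
  unfold θ
  infer_instance

theorem θ_puSec (φ : A ⟶ B) (s : Y ⟶ A.XT) {a : Y ⟶ B.XT} (e : s ≫ φ.top = a) {U : B.XT.Opens}
    (lc : a ⁻¹ᵁ U ≤ s ⁻¹ᵁ (φ.top ⁻¹ᵁ U)) (x : Γ(B.E, U)) :
    (θ φ s e).app (a ⁻¹ᵁ U) (puSec a x) = puSecLE s A.E lc (φ.c.app U x) := by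
  show ((Scheme.Modules.pullback s).map (κ φ.top φ.c)).app (a ⁻¹ᵁ U)
    ((compIso B.E s e).inv.app (a ⁻¹ᵁ U) (puSec a x)) = _
  rw [compIso_inv_puSec s e B.E lc, CohCmpLib.puSecLE_natural, κ_puSec]

theorem θ_puSecLE (φ : A ⟶ B) (s : Y ⟶ A.XT) {a : Y ⟶ B.XT} (e : s ≫ φ.top = a) {U : B.XT.Opens} {O : Y.Opens}
    (la : O ≤ a ⁻¹ᵁ U) (lc : O ≤ s ⁻¹ᵁ (φ.top ⁻¹ᵁ U)) (x : Γ(B.E, U)) :
    (θ φ s e).app O (puSecLE a B.E la x) = puSecLE s A.E lc (φ.c.app U x) := by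
  have lc' : a ⁻¹ᵁ U ≤ s ⁻¹ᵁ (φ.top ⁻¹ᵁ U) := by subst e; exact le_refl _
  rw [KFlatLib.puSecLE_apply, QCohLib.app_map, θ_puSec φ s e lc', KFlatLib.puSecLE_apply,
    KFlatLib.puSecLE_apply]
  show (pb s A.E).presheaf.map _ ((pb s A.E).presheaf.map _ _) = _
  rw [← ConcreteCategory.comp_apply, ← Functor.map_comp]
  rfl

theorem le_of_eq₀ {Z : Scheme.{u}} {s : Y ⟶ A.XT} {t : A.XT ⟶ Z} {a : Y ⟶ Z} (e : s ≫ t = a) (U : Z.Opens) :
    a ⁻¹ᵁ U ≤ s ⁻¹ᵁ (t ⁻¹ᵁ U) := by subst e; exact le_refl _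

theorem θ_id (A : Obj f) (s : Y ⟶ A.XT) (e : s ≫ (𝟙 A : A ⟶ A).top = s) : θ (𝟙 A) s e = 𝟙 _ := by
  refine hom_ext_puSec _ fun U x => ?_
  rw [θ_puSec (𝟙 A) s e (le_of_eq₀ e U)]
  exact puSecLE_rfl A.E x

theorem θ_congr {φ φ' : A ⟶ B} (h : φ = φ') (s : Y ⟶ A.XT) {a : Y ⟶ B.XT} (e : s ≫ φ.top = a)
    (e' : s ≫ φ'.top = a) : θ φ s e = θ φ' s e' := by
  subst h; rfl

theorem θ_comp (φ : A ⟶ B) (ψ : B ⟶ C) (s : Y ⟶ A.XT) {b : Y ⟶ B.XT} {a : Y ⟶ C.XT} (e₁ : s ≫ φ.top = b)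
    (e₂ : b ≫ ψ.top = a) (e : s ≫ (φ ≫ ψ).top = a) : θ (φ ≫ ψ) s e = θ ψ b e₂ ≫ θ φ s e₁ := by
  refine hom_ext_puSec _ fun U x => ?_
  have lb : a ⁻¹ᵁ U ≤ b ⁻¹ᵁ (ψ.top ⁻¹ᵁ U) := by subst e₂; exact le_refl _
  have ls : a ⁻¹ᵁ U ≤ s ⁻¹ᵁ ((φ ≫ ψ).top ⁻¹ᵁ U) := le_of_eq₀ e U
  rw [θ_puSec (φ ≫ ψ) s e ls]
  show _ = (θ φ s e₁).app (a ⁻¹ᵁ U) ((θ ψ b e₂).app (a ⁻¹ᵁ U) (puSec a x))
  rw [θ_puSec ψ b e₂ lb, θ_puSecLE φ s e₁ lb ls]
  exact congrArg _ (Obj.comp_c_app φ ψ U x)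

theorem θ_pull (φ : A ⟶ B) (g : Y' ⟶ Y) (s : Y ⟶ A.XT) {a : Y ⟶ B.XT} (e : s ≫ φ.top = a) {a' : Y' ⟶ B.XT}
    (ha : g ≫ a = a') {s' : Y' ⟶ A.XT} (hs : g ≫ s = s') (e' : s' ≫ φ.top = a') :
    (Scheme.Modules.pullback g).map (θ φ s e) ≫ (compIso A.E g hs).hom = (compIso B.E g ha).hom ≫ θ φ s' e' := by
  rw [← cancel_epi (compIso B.E g ha).inv, Iso.inv_hom_id_assoc]
  refine hom_ext_puSec _ fun U x => ?_
  have lg : a' ⁻¹ᵁ U ≤ g ⁻¹ᵁ (a ⁻¹ᵁ U) := by subst ha; exact le_refl _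
  have lc : a ⁻¹ᵁ U ≤ s ⁻¹ᵁ (φ.top ⁻¹ᵁ U) := by subst e; exact le_refl _
  have ls : a' ⁻¹ᵁ U ≤ s' ⁻¹ᵁ (φ.top ⁻¹ᵁ U) := le_of_eq₀ e' U
  show (compIso A.E g hs).hom.app (a' ⁻¹ᵁ U) (((Scheme.Modules.pullback g).map (θ φ s e)).app (a' ⁻¹ᵁ U)
    ((compIso B.E g ha).inv.app (a' ⁻¹ᵁ U) (puSec a' x))) = _
  rw [θ_puSec φ s' e' ls, compIso_inv_puSec g ha B.E lg, CohCmpLib.puSecLE_natural, θ_puSec φ s e lc,
    ← pullLE_eq_compIso, pullLE_puSecLE A.E g hs lc lg ls]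

end theta

/-- Morphisms of objects with the same base, top and adjoint maps are equal. -/
theorem hom_ext_κ {A B : Obj f} {φ ψ : A ⟶ B} (hb : φ.base = ψ.base) (ht : φ.top = ψ.top)
    (hθ : ∀ e : 𝟙 A.XT ≫ ψ.top = φ.top, θ φ (𝟙 A.XT) (Category.id_comp _) = θ ψ (𝟙 A.XT) e) : φ = ψ := by
  obtain ⟨b, t, wp, wq, c, hc⟩ := φ
  obtain ⟨b', t', wp', wq', c', hc'⟩ := ψ
  subst hb ht
  have h : κ t c = κ t c' := by
    have := hθ (Category.id_comp t)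
    unfold θ at this
    rw [cancel_epi] at this
    let e := Scheme.Modules.pullbackId A.XT
    have n1 := e.hom.naturality (κ t c)
    have n2 := e.hom.naturality (κ t c')
    rw [this, n2] at n1
    exact ((cancel_epi _).1 n1).symm
  have : c = c' := ((Scheme.Modules.pullbackPushforwardAdjunction t).homEquiv _ _).symm.injective h
  subst this
  rfl

end ModStackLib
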